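import Groth.Agent.Lib.Lech3.Count
import Mathlib.Order.WellFoundedSet
import Mathlib.Data.Sym.Card
import Mathlib.Data.Finsupp.Multiset
import Mathlib.Data.Nat.Choose.Bounds
import Mathlib.Analysis.SpecificLimits.Basic
import Mathlib.Order.Filter.AtTopBot.Field
import Mathlib.Analysis.Asymptotics.SpecificAsymptotics
import Mathlib.Algebra.BigOperators.Field

/-!
# Growth of the number of lattice points outside an upper set
-/

set_option autoImplicit false

open Finset Filter Topology

namespace GrothLib.Lech3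

variable {m : ℕ} {E : Set (Fin m → ℕ)}

/-- An upper set of exponents only depends on coordinates truncated at some bound. -/
theorem exists_bound (hE : ∀ a ∈ E, ∀ b, a ≤ b → b ∈ E) :
    ∃ M : ℕ, ∀ a, a ∈ E ↔ (fun i => min (a i) M) ∈ E := by
  classical
  have hfin : {a | Minimal (· ∈ E) a}.Finite :=
    (setOf_minimal_antichain _).finite_of_partiallyWellOrderedOn (Set.isPWO_of_wellQuasiOrderedLE _)
  refine ⟨hfin.toFinset.sup fun g => Finset.univ.sup g, fun a => ⟨fun ha => ?_, fun ha => hE _ ha a fun i => min_le_left _ _⟩⟩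
  obtain ⟨g, hga, hg⟩ := exists_minimal_le_of_wellFoundedLT (· ∈ E) a ha
  refine hE g hg.prop _ fun i => le_min (hga i) ?_
  exact (Finset.le_sup (f := g) (Finset.mem_univ i)).trans
    (Finset.le_sup (f := fun g : Fin m → ℕ => Finset.univ.sup g) (hfin.mem_toFinset.2 hg))

open Classical in
/-- Points of the box outside `E`. -/
noncomputable def boxOut (E : Set (Fin m → ℕ)) (n : ℕ) : Finset (Fin m → ℕ) :=
  (Fintype.piFinset fun _ : Fin m => Finset.range n).filter fun a => a ∉ E

open Classical in
/-- Points of the simplex outside `E`. -/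
noncomputable def simplexOut (E : Set (Fin m → ℕ)) (n : ℕ) : Finset (Fin m → ℕ) :=
  (simplex m n).filter fun a => a ∉ E

variable (M : ℕ)

open Classical in
/-- The classes of exponents outside `E`. -/
noncomputable def classes (E : Set (Fin m → ℕ)) : Finset (Fin m → ℕ) :=
  (Fintype.piFinset fun _ : Fin m => Finset.range (M + 1)).filter fun c => c ∉ E

/-- The free coordinates of a class. -/
def freeCoord (c : Fin m → ℕ) : Finset (Fin m) := Finset.univ.filter fun i => c i = M

variable {M} (hM : ∀ a, a ∈ E ↔ (fun i => min (a i) M) ∈ E)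
include hM

theorem card_boxOut_le (n : ℕ) : (boxOut E n).card ≤ ∑ c ∈ classes M E, n ^ (freeCoord M c).card := by
  classical
  have h1 : boxOut E n ⊆ (classes M E).biUnion fun c =>
      Fintype.piFinset fun i => if c i = M then Finset.range n else {c i} := fun a ha => by
    simp only [boxOut, mem_filter, Fintype.mem_piFinset, mem_range] at ha
    refine mem_biUnion.2 ⟨fun i => min (a i) M, ?_, Fintype.mem_piFinset.2 fun i => ?_⟩
    · simp only [classes, mem_filter, Fintype.mem_piFinset, mem_range]
      exact ⟨fun i => Nat.lt_succ_of_le (min_le_right _ _), fun h => ha.2 ((hM a).2 h)⟩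
    · split_ifs with h
      · exact mem_range.2 (ha.1 i)
      · have h' : ¬ min (a i) M = M := h
        exact mem_singleton.2 (min_eq_left (by omega)).symm
  refine (card_le_card h1).trans (card_biUnion_le.trans (le_of_eq (sum_congr rfl fun c _ => ?_)))
  rw [Fintype.card_piFinset, freeCoord, ← Finset.prod_const, Finset.prod_filter]
  exact prod_congr rfl fun i _ => by split_ifs <;> simp

omit hM in
/-- Stars and bars, as a lower bound. -/
theorem pow_le_card_supported (F : Finset (Fin m)) (L : ℕ) (hL : 0 < L) :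
    (L : ℝ) ^ F.card / (F.card).factorial ≤
      (((simplex m L).filter fun v => ∀ i ∉ F, v i = 0).card : ℝ) := by
  classical
  obtain ⟨L, rfl⟩ := Nat.exists_eq_succ_of_ne_zero hL.ne'
  have hc : (L + F.card).choose F.card ≤ ((simplex m (L + 1)).filter fun v => ∀ i ∉ F, v i = 0).card := by
    have h := Sym.card_sym_eq_choose (α := Option {i // i ∈ F}) L
    rw [Fintype.card_option, Fintype.card_coe, Nat.add_right_comm, Nat.add_sub_cancel, Nat.add_comm] at h
    rw [← Nat.choose_symm_add, ← h]
    let f : Sym (Option {i // i ∈ F}) L → (Fin m → ℕ) := fun s i =>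
      if hi : i ∈ F then (Sym.equivNatSumOfFintype _ L s).1 (some ⟨i, hi⟩) else 0
    have hsum : ∀ s, (Sym.equivNatSumOfFintype _ L s).1 none + ∑ i, f s i = L := fun s => by
      rw [← Finset.sum_subset (Finset.subset_univ F) (fun i _ hi => by simp [f, hi]), ← Finset.sum_coe_sort F]
      conv_rhs => rw [← (Sym.equivNatSumOfFintype _ L s).2, Fintype.sum_option]
      exact congrArg _ (sum_congr rfl fun i _ => by simp [f])
    rw [← Finset.card_univ]
    refine Finset.card_le_card_of_injOn f (fun s _ => ?_) fun s _ t _ hst => ?_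
    · simp only [mem_coe, mem_filter, mem_simplex]
      exact ⟨by have := hsum s; omega, fun i hi => by simp [f, hi]⟩
    · refine (Sym.equivNatSumOfFintype _ L).injective (Subtype.ext (funext fun o => ?_))
      rcases o with _ | ⟨i, hi⟩
      · have h1 := hsum s
        have h2 := hsum t
        rw [hst] at h1
        omega
      · simpa [f, hi] using congrFun hst i
  refine le_trans ?_ (Nat.cast_le.2 hc)
  exact (le_of_eq (by congr 3; omega)).trans (Nat.pow_le_choose F.card (L + F.card))

theorem card_simplexOut_ge (n : ℕ) (hn : ∀ c ∈ classes M E, ∑ i, c i < n) :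
    ∑ c ∈ classes M E, ((n - ∑ i, c i : ℕ) : ℝ) ^ (freeCoord M c).card / ((freeCoord M c).card).factorial ≤
      ((simplexOut E n).card : ℝ) := by
  classical
  have hdisj : ∀ c ∈ classes M E, ∀ v : Fin m → ℕ, (∀ i ∉ freeCoord M c, v i = 0) →
      (fun i => min ((c + v) i) M) = c := fun c hc v hv => funext fun i => by
    simp only [classes, mem_filter, Fintype.mem_piFinset, mem_range] at hc
    have := hc.1 i
    by_cases h : c i = M
    · simp [h]
    · have := hv i (by simp [freeCoord, h])
      simp [this]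
      omega
  calc _ ≤ ∑ c ∈ classes M E, (((simplex m (n - ∑ i, c i)).filter fun v => ∀ i ∉ freeCoord M c, v i = 0).card : ℝ) :=
        sum_le_sum fun c hc => pow_le_card_supported _ _ (Nat.sub_pos_of_lt (hn c hc))
    _ ≤ _ := by
      rw [← Nat.cast_sum, Nat.cast_le, ← Finset.card_sigma]
      refine Finset.card_le_card_of_injOn (fun p => p.1 + p.2) (fun p hp => ?_) ?_
      · simp only [mem_coe, mem_sigma, mem_filter, mem_simplex] at hp
        simp only [mem_coe, simplexOut, mem_filter, mem_simplex, Pi.add_apply, sum_add_distrib]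
        refine ⟨by omega, fun h => ?_⟩
        rw [hM, hdisj _ hp.1 _ hp.2.2] at h
        simp only [classes, mem_filter] at hp
        exact hp.1.2 h
      · rintro ⟨c, v⟩ hp ⟨c', v'⟩ hp' h
        simp only [mem_coe, mem_sigma, mem_filter] at hp hp'
        simp only at h
        obtain rfl : c = c' := by rw [← hdisj _ hp.1 _ hp.2.2, h, hdisj _ hp'.1 _ hp'.2.2]
        obtain rfl : v = v' := add_left_cancel h
        rfl

omit hM in
theorem tendsto_sub_div (k : ℕ) : Tendsto (fun n : ℕ => ((n - k : ℕ) : ℝ) / (n : ℝ)) atTop (𝓝 1) := by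
  have h : Tendsto (fun n : ℕ => 1 - (k : ℝ) / (n : ℝ)) atTop (𝓝 (1 - 0)) :=
    tendsto_const_nhds.sub (tendsto_const_div_atTop_nhds_zero_nat (k : ℝ))
  rw [sub_zero] at h
  refine h.congr' ?_
  filter_upwards [eventually_gt_atTop k] with n hn
  rw [Nat.cast_sub hn.le, sub_div, div_self]
  exact Nat.cast_ne_zero.2 (by omega)

/-- If the simplex count grows like `e n ^ r / r!`, a quantity bounded by `L` times the box count is
bounded by `L r! e`. -/
theorem le_of_bound (r : ℕ) (e : ℝ) (L : ℕ) (A : ℕ → ℕ) (eA : ℝ)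
    (he : Tendsto (fun n : ℕ => (r.factorial : ℝ) * ((simplexOut E n).card : ℝ) / (n : ℝ) ^ r) atTop (𝓝 e))
    (hA : ∀ n, 0 < n → A n ≤ L * (boxOut E n).card)
    (heA : Tendsto (fun n : ℕ => (r.factorial : ℝ) * (A n : ℝ) / (n : ℝ) ^ r) atTop (𝓝 eA)) :
    eA ≤ (r.factorial : ℝ) * e * L := by
  classical
  let f : (Fin m → ℕ) → ℕ := fun c => (freeCoord M c).card
  let low : (Fin m → ℕ) → ℕ → ℝ := fun c n =>
    (r.factorial : ℝ) * (((n - ∑ i, c i : ℕ) : ℝ) ^ f c / (f c).factorial) / (n : ℝ) ^ r
  have hlow : ∀ c n, 0 ≤ low c n := fun c n => by positivity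
  have hsum : ∀ᶠ n : ℕ in atTop,
      ∑ c ∈ classes M E, low c n ≤ (r.factorial : ℝ) * ((simplexOut E n).card : ℝ) / (n : ℝ) ^ r := by
    filter_upwards [eventually_gt_atTop (∑ c ∈ classes M E, ∑ i, c i)] with n hn
    simp only [low, ← Finset.sum_div, ← Finset.mul_sum]
    gcongr
    exact card_simplexOut_ge hM n fun c hc =>
      (Finset.single_le_sum (fun d _ => Nat.zero_le (∑ i, d i)) hc).trans_lt hn
  have hf : ∀ c ∈ classes M E, f c ≤ r := fun c hc => by
    by_contra hlt
    push Not at hlt
    have h1 : Tendsto (low c) atTop atTop := by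
      have h2 : Tendsto (fun n : ℕ => (r.factorial : ℝ) / (f c).factorial *
          (((n - ∑ i, c i : ℕ) : ℝ) / n) ^ f c) atTop (𝓝 ((r.factorial : ℝ) / (f c).factorial * 1 ^ f c)) :=
        tendsto_const_nhds.mul ((tendsto_sub_div _).pow _)
      have h3 : Tendsto (fun n : ℕ => (n : ℝ) ^ (f c - r)) atTop atTop :=
        (tendsto_pow_atTop (by omega)).comp tendsto_natCast_atTop_atTop
      refine (h2.pos_mul_atTop (by positivity) h3).congr' ?_
      filter_upwards [eventually_gt_atTop 0] with n hn
      have hn' : (n : ℝ) ≠ 0 := Nat.cast_ne_zero.2 (by omega)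
      rw [div_pow, show low c n = (r.factorial : ℝ) * (((n - ∑ i, c i : ℕ) : ℝ) ^ f c / (f c).factorial) / (n : ℝ) ^ r from rfl,
        pow_sub₀ _ hn' hlt.le]
      field_simp
    exact not_tendsto_nhds_of_tendsto_atTop (tendsto_atTop_mono' _
      (hsum.mono fun n hn => (Finset.single_le_sum (fun d _ => hlow d n) hc).trans hn) h1) e he
  let top := (classes M E).filter fun c => f c = r
  have htop : (top.card : ℝ) ≤ e := by
    have h : Tendsto (fun n => ∑ c ∈ top, low c n) atTop (𝓝 (∑ _c ∈ top, (1 : ℝ))) := by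
      refine tendsto_finsetSum _ fun c hc => ?_
      have hcr : f c = r := (mem_filter.1 hc).2
      have h2 := (tendsto_sub_div (∑ i, c i)).pow r
      rw [one_pow] at h2
      refine h2.congr fun n => ?_
      simp only [low, hcr, div_pow]
      field_simp
    rw [Finset.sum_const, nsmul_one] at h
    exact le_of_tendsto_of_tendsto h he (hsum.mono fun n hn =>
      (Finset.sum_le_sum_of_subset_of_nonneg (filter_subset _ _) fun c _ _ => hlow c n).trans hn)
  have hup : Tendsto (fun n : ℕ => (r.factorial : ℝ) * L * ∑ c ∈ classes M E, (n : ℝ) ^ f c / (n : ℝ) ^ r) atTop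
      (𝓝 ((r.factorial : ℝ) * L * ∑ c ∈ classes M E, if f c = r then (1 : ℝ) else 0)) := by
    refine tendsto_const_nhds.mul (tendsto_finsetSum _ fun c hc => ?_)
    split_ifs with hcr
    · refine tendsto_const_nhds.congr' ?_
      filter_upwards [eventually_gt_atTop 0] with n hn
      rw [hcr, div_self (pow_ne_zero _ (Nat.cast_ne_zero.2 (by omega)))]
    · exact (tendsto_pow_div_pow_atTop_zero (lt_of_le_of_ne (hf c hc) hcr)).comp tendsto_natCast_atTop_atTop
  have hle : eA ≤ (r.factorial : ℝ) * L * ∑ c ∈ classes M E, if f c = r then (1 : ℝ) else 0 := by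
    refine le_of_tendsto_of_tendsto heA hup ?_
    filter_upwards [eventually_gt_atTop 0] with n hn
    have h : (A n : ℝ) ≤ L * ∑ c ∈ classes M E, (n : ℝ) ^ f c := by
      exact_mod_cast (hA n hn).trans (Nat.mul_le_mul_left L (card_boxOut_le hM n))
    rw [← Finset.sum_div, ← mul_div_assoc, mul_assoc]
    gcongr
  rw [Finset.sum_boole] at hle
  refine hle.trans (le_of_le_of_eq (mul_le_mul_of_nonneg_left htop (by positivity)) ?_)
  ring

end GrothLib.Lech3
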