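import Mathlib.RingTheory.Length
import Mathlib.RingTheory.Ideal.Operations
import Mathlib.RingTheory.Noetherian.Basic
import Mathlib.RingTheory.LocalRing.MaximalIdeal.Basic
import Mathlib.RingTheory.SimpleModule.Basic
import Mathlib.Order.PiLex
import Mathlib.Algebra.Order.BigOperators.Group.Finset
import Mathlib.Data.Fintype.BigOperators

/-!
# Lengths of quotients of a local ring through monomials in generators of the maximal ideal
-/

set_option autoImplicit false
universe u

open scoped Pointwise
open Finset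

namespace GrothLib.Lech3

variable {m : ℕ}

/-- Degree lexicographic comparison of exponents. -/
def Lt (a b : Fin m → ℕ) : Prop :=
  ∑ i, a i < ∑ i, b i ∨ (∑ i, a i = ∑ i, b i ∧ toLex a < toLex b)

theorem Lt.irrefl (a : Fin m → ℕ) : ¬ Lt a a :=
  fun h => h.elim (lt_irrefl _) fun h => lt_irrefl _ h.2

theorem Lt.trans {a b c : Fin m → ℕ} (h : Lt a b) (h' : Lt b c) : Lt a c := by
  rcases h with h | ⟨h, hl⟩ <;> rcases h' with h' | ⟨h', hl'⟩
  · exact Or.inl (h.trans h')
  · exact Or.inl (h' ▸ h)
  · exact Or.inl (h.symm ▸ h')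
  · exact Or.inr ⟨h.trans h', hl.trans hl'⟩

theorem Lt.connected {a b : Fin m → ℕ} (h : a ≠ b) : Lt a b ∨ Lt b a := by
  rcases lt_trichotomy (∑ i, a i) (∑ i, b i) with h1 | h1 | h1
  · exact Or.inl (Or.inl h1)
  · rcases lt_trichotomy (toLex a) (toLex b) with h2 | h2 | h2
    · exact Or.inl (Or.inr ⟨h1, h2⟩)
    · exact absurd (toLex.injective h2) h
    · exact Or.inr (Or.inr ⟨h1.symm, h2⟩)
  · exact Or.inr (Or.inl h1)

theorem Lt.add_right {a b : Fin m → ℕ} (h : Lt a b) (c : Fin m → ℕ) : Lt (a + c) (b + c) := by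
  simp only [Lt, Pi.add_apply, sum_add_distrib, toLex_add]
  rcases h with h | ⟨h, hl⟩
  · exact Or.inl (by omega)
  · refine Or.inr ⟨by omega, ?_⟩
    obtain ⟨i, hi, hlt⟩ := hl
    exact ⟨i, fun j hj => congrArg (· + c j) (hi j hj), Nat.add_lt_add_right hlt (c i)⟩

/-- Every nonempty finite set of exponents has a largest element. -/
theorem exists_max : ∀ s : Finset (Fin m → ℕ), s.Nonempty → ∃ a ∈ s, ∀ b ∈ s, ¬ Lt a b := by
  intro s hs
  induction hs using Finset.Nonempty.cons_induction with
  | singleton a => exact ⟨a, mem_singleton_self a, fun b hb => by rw [mem_singleton.1 hb]; exact Lt.irrefl a⟩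
  | cons c s hc hs ih =>
    obtain ⟨a, ha, hmax⟩ := ih
    by_cases h : Lt a c
    · refine ⟨c, mem_cons_self c s, fun b hb h' => ?_⟩
      rcases mem_cons.1 hb with rfl | hb
      · exact Lt.irrefl _ h'
      · exact hmax b hb (h.trans h')
    · refine ⟨a, mem_cons.2 (Or.inr ha), fun b hb => ?_⟩
      rcases mem_cons.1 hb with rfl | hb
      · exact h
      · exact hmax b hb

/-- Exponents of degree less than `n`. -/
def simplex (m n : ℕ) : Finset (Fin m → ℕ) :=
  (Fintype.piFinset fun _ : Fin m => Finset.range n).filter fun a => ∑ i, a i < n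

theorem mem_simplex {n : ℕ} {a : Fin m → ℕ} : a ∈ simplex m n ↔ ∑ i, a i < n := by
  simp only [simplex, mem_filter, Fintype.mem_piFinset, mem_range, and_iff_right_iff_imp]
  exact fun h i => (single_le_sum (fun j _ => Nat.zero_le (a j)) (mem_univ i)).trans_lt h

variable {R : Type u} [CommRing R] (x : Fin m → R)

/-- A monomial. -/
def mon (a : Fin m → ℕ) : R := ∏ i, x i ^ a i

theorem mon_add (a b : Fin m → ℕ) : mon x (a + b) = mon x a * mon x b := by
  simp [mon, pow_add, prod_mul_distrib]

theorem mon_zero : mon x 0 = 1 := by simp [mon]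

theorem mon_single (i : Fin m) : mon x (Pi.single i 1) = x i := by
  rw [mon, Finset.prod_eq_single i]
  · simp
  · intro j _ hj
    simp [hj]
  · simp

/-- The ideal generated by the monomials above `a`. -/
def above (a : Fin m → ℕ) : Ideal R := Ideal.span (mon x '' {b | Lt a b})

/-- The monomial `a` is redundant modulo `K`. -/
def Red (K : Ideal R) (a : Fin m → ℕ) : Prop := mon x a ∈ K ⊔ above x a

theorem mul_mem_above {a : Fin m → ℕ} {v : R} (hv : v ∈ above x a) (c : Fin m → ℕ) :
    v * mon x c ∈ above x (a + c) := by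
  refine Submodule.span_induction ?_ ?_ ?_ ?_ hv
  · rintro _ ⟨b, hb, rfl⟩
    rw [← mon_add]
    exact Ideal.subset_span ⟨_, Lt.add_right hb c, rfl⟩
  · simp
  · intro _ _ _ _ h h'
    rw [add_mul]
    exact add_mem h h'
  · intro r _ _ h
    rw [smul_eq_mul, mul_assoc]
    exact Ideal.mul_mem_left _ r h

variable {x}

theorem Red.mono_ideal {K K' : Ideal R} (h : K ≤ K') {a : Fin m → ℕ} (ha : Red x K a) : Red x K' a :=
  (sup_le_sup_right h _ : K ⊔ above x a ≤ _) ha

theorem Red.mul {K K' : Ideal R} {a b : Fin m → ℕ} (ha : Red x K a) (hb : Red x K' b) :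
    Red x (K * K') (a + b) := by
  obtain ⟨k, hk, v, hv, hkv⟩ := Submodule.mem_sup.1 ha
  obtain ⟨k', hk', v', hv', hkv'⟩ := Submodule.mem_sup.1 hb
  have e : mon x (a + b) = k * k' + (mon x a * v' - v * v' + v * mon x b) := by
    rw [mon_add, ← hkv, ← hkv']; ring
  rw [Red, e]
  refine Submodule.add_mem_sup (Ideal.mul_mem_mul hk hk') (add_mem (sub_mem ?_ ?_) (mul_mem_above x hv b))
  · rw [mul_comm, add_comm a b]
    exact mul_mem_above x hv' a
  · refine Submodule.span_induction ?_ ?_ ?_ ?_ hv'
    · rintro _ ⟨c, hc, rfl⟩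
      refine (Ideal.span_le (I := above x (a + b))).2 ?_ (mul_mem_above x hv c)
      rintro _ ⟨d, hd, rfl⟩
      refine Ideal.subset_span ⟨d, ?_, rfl⟩
      have := Lt.add_right hc a
      rw [add_comm c a, add_comm b a] at this
      exact this.trans hd
    · simp
    · intro _ _ _ _ h h'
      rw [mul_add]
      exact add_mem h h'
    · intro r _ _ h
      rw [smul_eq_mul, mul_left_comm]
      exact Ideal.mul_mem_left _ r h

theorem Red.of_le {K : Ideal R} {a b : Fin m → ℕ} (ha : Red x K a) (hab : a ≤ b) : Red x K b := by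
  have h : Red x (⊤ : Ideal R) (b - a) := by simp [Red]
  have := ha.mul h
  rw [Ideal.mul_top, show a + (b - a) = b from funext fun i => Nat.add_sub_cancel' (hab i)] at this
  exact this

theorem Red.pow {K : Ideal R} {a : Fin m → ℕ} (ha : Red x K a) : ∀ n : ℕ, Red x (K ^ n) (n • a)
  | 0 => by simp [Red]
  | n + 1 => by
    rw [pow_succ, succ_nsmul]
    exact (Red.pow ha n).mul ha

theorem red_of_mem_pow {K : Ideal R} {N : ℕ} (hx : ∀ i, x i ∈ K) {a : Fin m → ℕ} (ha : N ≤ ∑ i, a i) :
    Red x (K ^ N) a :=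
  Submodule.mem_sup_left (Ideal.pow_le_pow_right ha (by
    rw [← Finset.prod_pow_eq_pow_sum Finset.univ a K]
    exact Ideal.prod_mem_prod fun i _ => Ideal.pow_mem_pow (hx i) _))

theorem span_pow_le : ∀ n : ℕ, Ideal.span (Set.range x) ^ n ≤ Ideal.span (mon x '' {b | n ≤ ∑ i, b i})
  | 0 => by
    rw [pow_zero, Ideal.one_eq_top]
    have h1 : (1 : R) ∈ Ideal.span (mon x '' {b | 0 ≤ ∑ i, b i}) := Ideal.subset_span ⟨0, by simp, mon_zero x⟩
    exact ((Ideal.eq_top_iff_one _).2 h1).ge
  | n + 1 => by
    rw [pow_succ]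
    refine (Ideal.mul_mono_left (span_pow_le n)).trans ?_
    rw [Ideal.span_mul_span, Ideal.span_le]
    rintro _ h
    obtain ⟨_, ⟨b, hb, rfl⟩, _, ⟨i, rfl⟩, rfl⟩ := Set.mem_mul.1 h
    refine Ideal.subset_span ⟨b + Pi.single i 1, ?_, by rw [mon_add, mon_single]⟩
    simp only [Set.mem_setOf_eq, Pi.add_apply, sum_add_distrib, Finset.sum_pi_single', Finset.mem_univ, if_true]
    exact Nat.add_le_add_right hb 1

/-- Below degree `n` the ideal `𝔪 ^ n` does not matter. -/
theorem red_pow_iff {n : ℕ} {a : Fin m → ℕ} (ha : ∑ i, a i < n) :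
    Red x (Ideal.span (Set.range x) ^ n) a ↔ Red x ⊥ a := by
  refine ⟨fun h => ?_, Red.mono_ideal bot_le⟩
  rw [Red, bot_sup_eq]
  refine (sup_le ((span_pow_le n).trans (Ideal.span_mono (Set.image_mono ?_))) le_rfl : _ ≤ above x a) h
  exact fun b hb => Or.inl (ha.trans_le hb)

variable [IsLocalRing R] [IsNoetherianRing R]

open Classical in
/-- The length of an `𝔪`-primary quotient is the number of irredundant monomials. -/
theorem length_eq_card (hx : Ideal.span (Set.range x) = IsLocalRing.maximalIdeal R) (K : Ideal R) (N : ℕ)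
    (hK : IsLocalRing.maximalIdeal R ^ N ≤ K) :
    Module.length R (R ⧸ K) = ((simplex m N).filter fun a => ¬ Red x K a).card := by
  have main : ∀ s : Finset (Fin m → ℕ), (∀ a ∈ s, ∀ b, Lt b a → b ∈ s) →
      Module.length R (R ⧸ (K ⊔ Ideal.span (mon x '' {b | b ∉ s}))) = (s.filter fun a => ¬ Red x K a).card := by
    intro s
    induction s using Finset.strongInduction with
    | H s ih =>
      intro hs
      rcases s.eq_empty_or_nonempty with rfl | hne
      · have : K ⊔ Ideal.span (mon x '' {b | b ∉ (∅ : Finset (Fin m → ℕ))}) = ⊤ :=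
          (Ideal.eq_top_iff_one _).2 (Submodule.mem_sup_right (Ideal.subset_span ⟨0, by simp, mon_zero x⟩))
        rw [this]
        haveI : Subsingleton (R ⧸ (⊤ : Ideal R)) := Ideal.Quotient.subsingleton_iff.2 rfl
        simp [Module.length_eq_zero]
      obtain ⟨a, ha, hmax⟩ := exists_max s hne
      have hW : Ideal.span (mon x '' {b | b ∉ s}) = above x a := by
        refine congrArg Ideal.span (congrArg (mon x '' ·) (Set.ext fun b => ⟨fun hb => ?_, fun hb hbs => hmax b hbs hb⟩))
        rcases Lt.connected (a := a) (b := b) (fun h => hb (h ▸ ha)) with h | h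
        · exact h
        · exact absurd (hs a ha b h) hb
      have hs' : ∀ c ∈ s.erase a, ∀ b, Lt b c → b ∈ s.erase a := fun c hc b hb =>
        mem_erase.2 ⟨fun h => hmax c (mem_of_mem_erase hc) (h ▸ hb), hs c (mem_of_mem_erase hc) b hb⟩
      have hW' : Ideal.span (mon x '' {b | b ∉ s.erase a}) = above x a ⊔ Ideal.span {mon x a} := by
        rw [← hW, ← Ideal.span_union, ← Set.image_singleton, ← Set.image_union]
        congr 2
        ext b
        by_cases h : b = a <;> simp [h]
      have h1 := ih (s.erase a) (erase_ssubset ha) hs'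
      rw [hW', ← sup_assoc] at h1
      rw [hW]
      by_cases hr : Red x K a
      · rw [sup_eq_left.2 ((Ideal.span_singleton_le_iff_mem _).2 hr)] at h1
        rw [h1, filter_erase, erase_eq_of_notMem (by simp [hr])]
      · let P := K ⊔ above x a
        let P' := P ⊔ Ideal.span {mon x a}
        let ψ : (R ⧸ IsLocalRing.maximalIdeal R) →ₗ[R] R ⧸ P :=
          Submodule.liftQ _ (LinearMap.toSpanSingleton R (R ⧸ P) (Ideal.Quotient.mk P (mon x a))) (by
            rw [← hx, Ideal.span, Submodule.span_le]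
            rintro _ ⟨i, rfl⟩
            show x i • Ideal.Quotient.mk P (mon x a) = 0
            refine Ideal.Quotient.eq_zero_iff_mem.2 (Submodule.mem_sup_right (Ideal.subset_span
              ⟨a + Pi.single i 1, Or.inl ?_, by rw [mon_add, mon_single, mul_comm]; rfl⟩))
            simp [sum_add_distrib])
        haveI : IsSimpleModule R (R ⧸ IsLocalRing.maximalIdeal R) :=
          isSimpleModule_iff_isCoatom.2 (IsLocalRing.maximalIdeal.isMaximal R).out
        have hinj : Function.Injective ψ := by
          refine LinearMap.injective_or_eq_zero ψ |>.resolve_right fun h => hr ?_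
          have := LinearMap.congr_fun h (Submodule.Quotient.mk 1)
          simp only [ψ, Submodule.liftQ_apply, LinearMap.toSpanSingleton_apply, one_smul, LinearMap.zero_apply] at this
          exact Ideal.Quotient.eq_zero_iff_mem.1 this
        let π : (R ⧸ P) →ₗ[R] R ⧸ P' := Submodule.factor le_sup_left
        have hex : Function.Exact ψ π := by
          intro z
          obtain ⟨r, rfl⟩ := Submodule.Quotient.mk_surjective _ z
          constructor
          · intro h
            obtain ⟨p, hp, q, hq, rfl⟩ := Submodule.mem_sup.1 ((Submodule.Quotient.mk_eq_zero P').1 h)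
            obtain ⟨c, rfl⟩ := Ideal.mem_span_singleton'.1 hq
            refine ⟨Submodule.Quotient.mk c, ?_⟩
            rw [Submodule.Quotient.mk_add, (Submodule.Quotient.mk_eq_zero P).2 hp, zero_add]
            rfl
          · rintro ⟨y, hy⟩
            obtain ⟨c, rfl⟩ := Submodule.Quotient.mk_surjective _ y
            rw [← hy]
            exact (Submodule.Quotient.mk_eq_zero P').2 (Submodule.mem_sup_right (Ideal.mem_span_singleton'.2 ⟨c, rfl⟩))
        rw [Module.length_eq_add_of_exact ψ π hinj (Submodule.factor_surjective _) hex, Module.length_eq_one, h1,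
          filter_erase, ← Finset.card_erase_add_one (mem_filter.2 ⟨ha, hr⟩), Nat.cast_add, Nat.cast_one, add_comm]
  have h := main (simplex m N) fun a ha b hb => by
    rw [mem_simplex] at ha ⊢
    rcases hb with hb | ⟨hb, -⟩ <;> omega
  have hle : Ideal.span (mon x '' {b | b ∉ simplex m N}) ≤ K := by
    rw [Ideal.span_le]
    rintro _ ⟨b, hb, rfl⟩
    rw [Set.mem_setOf_eq, mem_simplex, not_lt] at hb
    exact hK (Ideal.pow_le_pow_right hb (by
      rw [← Finset.prod_pow_eq_pow_sum Finset.univ b (IsLocalRing.maximalIdeal R)]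
      exact Ideal.prod_mem_prod fun i _ => Ideal.pow_mem_pow (hx ▸ Ideal.subset_span ⟨i, rfl⟩) _))
  rwa [sup_eq_left.2 hle] at h

end GrothLib.Lech3
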